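import Cfsg.Agent.H5.SmallBlocksTwo
import Cfsg.Agent.H5.SmallMembers

/-!
The orthogonal decompositions with members over very small fields.
-/

set_option autoImplicit false

namespace Cfsg.Agent.H5

open QuadraticMap hiding sq

theorem sb_two_ne_zero_of_odd_card {F : Type*} [Field F] [Fintype F] (h : Odd (Fintype.card F)) :
    (2 : F) ≠ 0 := fun h2 => by
  haveI := CharTwo.of_one_ne_zero_of_two_eq_zero (R := F) one_ne_zero h2
  exact (Nat.not_even_iff_odd.2 h) (Nat.even_iff.2 (FiniteField.even_card_of_char_two (ringChar.eq F 2)))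

theorem two_eq_zero_of_even_card {F : Type*} [Field F] [Fintype F] (h : Even (Fintype.card F)) :
    (2 : F) = 0 := by
  by_contra h2
  refine Nat.not_even_iff.2 (FiniteField.odd_card_of_char_ne_two fun hc => h2 ?_) h
  haveI : CharP F 2 := (ringChar.eq_iff).1 hc
  exact CharTwo.two_eq_zero

variable {ι : Type} [Fintype ι] [DecidableEq ι] {F : Type*} [Field F] [Fintype F]
  {Q : QuadraticForm F (ι → F)} {f : (ι → F) → F} {t k : ℕ} {D : Fin t → Submodule F (ι → F)}

theorem not_maximal_small (hf : ⇑Q = f) (hQ : (polarBilin Q).Nondegenerate)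
    (hn : 13 ≤ Fintype.card ι) (hD : Cfsg.Geo.IsOrthogonalMDecomposition f k D)
    (hcase : (k = 2 ∧ (Fintype.card F = 3 ∨ ((∀ i, Cfsg.Geo.IsPlusTypeOn f (D i)) ∧
        (Fintype.card F = 2 ∨ Fintype.card F = 4 ∨ Fintype.card F = 5)))) ∨
      (k = 3 ∧ Fintype.card F = 3) ∨
      (k = 4 ∧ Fintype.card F = 2 ∧ ∀ i, Cfsg.Geo.IsPlusTypeOn f (D i))) :
    ∃ K : Subgroup (GL ι F), Cfsg.Geo.decompositionStabilizer D ⊓ Cfsg.Geo.omegaGL f < K ∧
      K < Cfsg.Geo.omegaGL f := by
  classical
  have hcard := card_eq_mul_of_mdecomposition hD.decomp.decomp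
  have hWU : ∀ i, D i ⊓ perp Q (D i) = ⊥ := fun i =>
    inf_perp_of_isNondegenerateOn Q hf (hD.decomp.nondegenerate i)
  have hdim := hD.decomp.decomp.finrank_eq
  have hsing : k = 2 → (∀ i, Cfsg.Geo.IsPlusTypeOn f (D i)) →
      ∀ i, ∃ x ∈ D i, x ≠ 0 ∧ Q x = 0 := by
    intro hk hp i
    obtain ⟨U, hUW, hU, hUd⟩ := hp i
    rw [hdim, hk] at hUd
    obtain ⟨x, hx, hx0⟩ := Submodule.exists_mem_ne_zero_of_ne_bot
      (show U ≠ ⊥ from fun h => by rw [h, finrank_bot] at hUd; omega)
    exact ⟨x, hUW hx, hx0, by rw [hf]; exact hU x hx⟩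
  rcases hcase with ⟨hk, hq⟩ | ⟨hk, hq⟩ | ⟨hk, hq, hp⟩
  · subst hk
    rcases hq with hq | ⟨hp, hq | hq | hq⟩
    · have h2 : (2 : F) ≠ 0 := sb_two_ne_zero_of_odd_card (by rw [hq]; decide)
      exact not_maximal_frame hf hQ h2 hn hD.decomp le_rfl (by omega) one_ne_zero
        (fun i => exists_mem_norm_eq (hWU i) (hdim i).ge 1)
        (fun i => plane_pair_three hq h2 (hdim i) (hWU i))
    · have h2 : (2 : F) = 0 := two_eq_zero_of_even_card (by rw [hq]; decide)
      refine not_maximal_lattice hf hQ h2 (by omega) hD.decomp (by omega) (fun i => ?_) ⊥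
        (fun a ha => Or.inl (AddSubgroup.mem_bot.1 ha)) (fun x hx => ?_)
        (l := 1) (fun h => one_ne_zero (AddSubgroup.mem_bot.1 h))
      · obtain ⟨e, he, he0, hqe⟩ := hsing rfl hp i
        obtain ⟨p, hp', hep⟩ := exists_partner (hWU i) he he0 hqe
        exact ⟨e, he, p, hp', hep⟩
      · have h1 := FiniteField.pow_card_sub_one_eq_one x hx
        rw [hq] at h1
        rw [AddSubgroup.mem_bot, show x = 1 by simpa using h1, inv_one]
        linear_combination h2
    · have h2 : (2 : F) = 0 := two_eq_zero_of_even_card (by rw [hq]; decide)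
      let A : AddSubgroup F :=
        { carrier := {a | a = 0 ∨ a = 1}
          zero_mem' := Or.inl rfl
          add_mem' := by
            rintro a b (rfl | rfl) (rfl | rfl)
            · exact Or.inl (add_zero _)
            · exact Or.inr (zero_add _)
            · exact Or.inr (add_zero _)
            · exact Or.inl (by linear_combination h2)
          neg_mem' := by
            rintro a (rfl | rfl)
            · exact Or.inl neg_zero
            · exact Or.inr (by linear_combination -h2) }
      obtain ⟨l, -, hl⟩ := Finset.exists_mem_notMem_of_card_lt_card (t := (Finset.univ : Finset F))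
        (s := ({0, 1} : Finset F))
        (lt_of_le_of_lt Finset.card_le_two (by rw [Finset.card_univ, hq]; norm_num))
      simp only [Finset.mem_insert, Finset.mem_singleton] at hl
      refine not_maximal_lattice hf hQ h2 (by omega) hD.decomp (by omega) (fun i => ?_) A
        (fun a ha => ha) (fun x hx => ?_) (l := l) hl
      · obtain ⟨e, he, he0, hqe⟩ := hsing rfl hp i
        obtain ⟨p, hp', hep⟩ := exists_partner (hWU i) he he0 hqe
        exact ⟨e, he, p, hp', hep⟩
      · have h1 := FiniteField.pow_card_sub_one_eq_one x hx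
        rw [hq] at h1
        have h3 : (x - 1) * (x * x + x + 1) = 0 := by linear_combination h1
        rcases mul_eq_zero.1 h3 with h | h
        · rw [sub_eq_zero.1 h, inv_one]; exact Or.inl (by linear_combination h2)
        · refine Or.inr ?_
          field_simp
          linear_combination h - x * h2
    · have h2 : (2 : F) ≠ 0 := sb_two_ne_zero_of_odd_card (by rw [hq]; decide)
      exact not_maximal_frame hf hQ h2 hn hD.decomp le_rfl (by omega) one_ne_zero
        (fun i => exists_mem_norm_eq (hWU i) (hdim i).ge 1)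
        (fun i => plane_pair_five hq h2 (hdim i) (hWU i) (hsing rfl hp i))
  · subst hk
    have h2 : (2 : F) ≠ 0 := sb_two_ne_zero_of_odd_card (by rw [hq]; decide)
    obtain ⟨c, hc, ⟨u, hu, hqu⟩, hpair⟩ := space_three_frame hq (hdim ⟨0, by
      have := hD.decomp.decomp.two_le; omega⟩) (hWU _)
    refine not_maximal_frame hf hQ h2 hn hD.decomp (by omega) (by omega) hc (fun i => ?_)
      (fun i x hx y hy hqx hqy => ?_)
    · obtain ⟨φ, hφ⟩ := hD.isometric _ i
      have hqφ : ∀ w, Q (φ w : ι → F) = Q (w : ι → F) := fun w => by rw [hf]; exact hφ w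
      exact ⟨φ ⟨u, hu⟩, (φ ⟨u, hu⟩).2, (hqφ _).trans hqu⟩
    · obtain ⟨φ, hφ⟩ := hD.isometric i ⟨0, by have := hD.decomp.decomp.two_le; omega⟩
      have hqφ : ∀ w : D i, Q (φ w : ι → F) = Q (w : ι → F) := fun w => by rw [hf]; exact hφ w
      have hbφ : ∀ a b : D i, polar Q (φ a : ι → F) (φ b : ι → F) =
          polar Q (a : ι → F) (b : ι → F) := fun a b => by
        simp only [QuadraticMap.polar]
        rw [← Submodule.coe_add, ← map_add, hqφ, hqφ, hqφ, Submodule.coe_add]
      rcases hpair _ (φ ⟨x, hx⟩).2 _ (φ ⟨y, hy⟩).2 (by rw [hqφ]; exact hqx) (by rw [hqφ]; exact hqy)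
        with h | h | h
      · exact Or.inl (congrArg Subtype.val (φ.injective (Subtype.ext h)))
      · refine Or.inr (Or.inl (congrArg Subtype.val
          (φ.injective (a₁ := ⟨y, hy⟩) (a₂ := -⟨x, hx⟩) (Subtype.ext ?_))))
        rw [map_neg]; exact h
      · exact Or.inr (Or.inr ((hbφ ⟨x, hx⟩ ⟨y, hy⟩).symm.trans h))
  · subst hk
    exact not_maximal_four_two hf hQ hq (by omega) hD.decomp hD.decomp.decomp.two_le hp

end Cfsg.Agent.H5
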